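import Cfsg.Agent.H271.PU.RowB
import Cfsg.Agent.OddHalf.Small.G23
import Cfsg.Agent.SevenCases.Rows

/-!
# S3046, case B: the row `G₂(3)` at `p = 2` (helper736)

`C(z)` is covered by 1296 words; every involution of `C(z)` different from `z` does not commute with one of its
conjugates under the root elements of `C(z)`.  So `⟨z⟩` is the only normal elementary abelian 2-subgroup of `C(z)`
containing `z`.
-/

set_option autoImplicit false
set_option Elab.async false
set_option maxRecDepth 100000

namespace Cfsg.Agent.H736.PU.G23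

open Subgroup Cfsg Cfsg.Lie
open Cfsg.Agent.H271.PU (RowB RowAt PCen)
open Cfsg.Agent.GTwoThree.Model
open Cfsg.Agent.OddHalf.Small.G23Data Cfsg.Agent.OddHalf.Small.G23Check Cfsg.Agent.OddHalf.Small.G23

/-- `z` and `1` are the only elements of square one of `C(z)` commuting with all their conjugates in `C(z)` -/
def OnlyZ {G : Type*} [Group G] (z : G) : Prop := ∀ g : G, g * z = z * g → g * g = 1 →
    (∀ c : G, c * z = z * c → g * (c * g * c⁻¹) = c * g * c⁻¹ * g) → g = 1 ∨ g = z

theorem OnlyZ.map {G G' : Type*} [Group G] [Group G'] {z : G} (h : OnlyZ z) (e : G ≃* G') : OnlyZ (e z) := by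
  intro g h1 h2 h3
  have h4 := h (e.symm g) (e.injective (by rw [map_mul, map_mul, e.apply_symm_apply, h1]))
    (by rw [← map_mul, h2, map_one]) fun c hc => ?_
  · rcases h4 with h4 | h4
    · exact Or.inl (e.symm.injective (h4.trans (map_one _).symm))
    · exact Or.inr ((e.symm_apply_eq).1 h4)
  · apply e.injective
    have h5 := h3 (e c) (by rw [← map_mul, hc, map_mul])
    simpa only [map_mul, map_inv, e.apply_symm_apply] using h5

theorem OnlyZ.of_conj {G : Type*} [Group G] {z t c : G} (h : OnlyZ z) (hc : c * t * c⁻¹ = z) : OnlyZ t := by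
  have e : MulAut.conj c⁻¹ z = t := by
    rw [MulAut.conj_apply, ← hc]
    group
  rw [← e]
  exact h.map _

theorem OnlyZ.of_equiv {G G' : Type*} [Group G] [Group G'] (h : ∀ t : G', orderOf t = 2 → OnlyZ t) (f : G' ≃* G) :
    ∀ t : G, orderOf t = 2 → OnlyZ t := by
  intro t ht
  have h1 := (h (f.symm t) (by rw [f.symm.orderOf_eq, ht])).map f
  rwa [f.apply_symm_apply] at h1

/-- the elementary abelian normal 2-subgroups of `C(z)` containing `z` -/
theorem OnlyZ.elem {G : Type*} [Group G] {z : G} (h : OnlyZ z) {A : Subgroup G} (hA : IsElementaryAbelian 2 A)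
    (hAc : A ≤ centralizer ({z} : Set G)) (hN : centralizer ({z} : Set G) ≤ normalizer (A : Set G)) :
    ∀ a ∈ A, a = 1 ∨ a = z := by
  intro a ha
  refine h a (mem_centralizer_singleton_iff.1 (hAc ha)) ?_ fun c hc => ?_
  · have := hA.2 a ha
    rwa [pow_two] at this
  · have h2 : c * a * c⁻¹ ∈ A := (mem_normalizer_iff.1 (hN (mem_centralizer_singleton_iff.2 hc)) a).1 ha
    exact congrArg Subtype.val (hA.1.is_comm.comm ⟨a, ha⟩ ⟨_, h2⟩)

/-- a criterion for the row condition -/
theorem OnlyZ.rowAt {G : Type*} [Group G] [Finite G] {z : G} (h : OnlyZ z) : RowAt 2 z := by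
  intro A hA hz hAc hN hcard
  exfalso
  have h2 : (A : Set G) ⊆ {1, z} := by
    intro a ha
    rcases h.elem hA hAc hN a ha with h | h
    · exact Or.inl h
    · exact Or.inr h
  have h3 : Nat.card A ≤ 2 := by
    have h4 := Set.ncard_le_ncard h2 (Set.toFinite _)
    have h5 : ({1, z} : Set G).ncard ≤ 2 := by
      refine (Set.ncard_insert_le _ _).trans ?_
      rw [Set.ncard_singleton]
    exact (Nat.card_coe_set_eq (A : Set G)).trans_le (h4.trans h5)
  omega

/-- letters of the root elements in `C(z)` -/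
def CL : List ℕ := [12, 13, 18, 19, 10, 11, 4, 5]

/-- words of elements of `C(z)` used for the conjugation, with the inverses -/
def CC : List (List ℕ × List ℕ) := CL.map fun k => ([k], [iv k])

theorem CC_check : CC.all (fun c => eqc (c.1 ++ wz) (wz ++ c.1) && eqc (c.1 ++ c.2) []) = true := by decide +kernel

/-- the words covering `C(z)` -/
def cw (i a d a' d' : ℕ) : List ℕ := (wx 6 a ++ wx 9 d) ++ (NL.getD i [] ++ (wx 6 a' ++ wx 9 d'))

/-- the check: `W ^ 2 ≠ 1` or `W = 1` or `W = z` or `W` does not commute with one of its conjugates -/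
noncomputable def chk (W : List ℕ) : Bool :=
  nec (W ++ W) [] || ((CC.any fun c => nec (W ++ (c.1 ++ (W ++ c.2))) (c.1 ++ (W ++ (c.2 ++ W)))) || (eqc W [] || eqc W wz))

/-- the check for the words with given `i` -/
noncomputable def chkI (i : ℕ) : Bool :=
  [0, 1, 2].all fun a => [0, 1, 2].all fun d => [0, 1, 2].all fun a' => [0, 1, 2].all fun d' => chk (cw i a d a' d')

theorem check_C : NZ.all chkI = true := by decide +kernel

/-- the elements of `C(z)` are the listed words -/
theorem exists_word {g : ↥Gp} (hg : g * z = z * g) : ∃ W : List ℕ, g = ev y W ∧ chk W = true := by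
  obtain ⟨a, d, i, hi, a', d', -, -, h, -⟩ := cent hg
  refine ⟨cw i a.val d.val a'.val d'.val, ?_, ?_⟩
  · rw [h, cw, ev_append, ev_append, ev_append, ev_append, mul_assoc, ev_append, ev_append]
  · have h1 := List.all_eq_true.1 check_C i hi
    unfold chkI at h1
    have hm : ∀ t : Fin 3, t.val ∈ ([0, 1, 2] : List ℕ) := by decide
    exact List.all_eq_true.1 (List.all_eq_true.1 (List.all_eq_true.1 (List.all_eq_true.1 h1 a.val (hm a))
      d.val (hm d)) a'.val (hm a')) d'.val (hm d')

/-- the involutions of `C(z)` commuting with all their conjugates in `C(z)` -/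
theorem onlyZ_z : OnlyZ z := by
  intro g hg h2 hc
  obtain ⟨W, rfl, hW⟩ := exists_word hg
  unfold chk at hW
  rw [Bool.or_eq_true, Bool.or_eq_true, Bool.or_eq_true, List.any_eq_true] at hW
  rcases hW with hW | ⟨c, hcC, hW⟩ | hW | hW
  · exfalso
    apply ne_of_nec hW
    rw [ev_append, h2]
    rfl
  · exfalso
    have h3 := List.all_eq_true.1 CC_check c hcC
    rw [Bool.and_eq_true] at h3
    have h4 := eq_of_eqc h3.1
    have h5 := eq_of_eqc h3.2
    rw [ev_append, ev_append] at h4
    rw [ev_append, ev_nil] at h5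
    have h6 : ev y c.2 = (ev y c.1)⁻¹ := (inv_eq_of_mul_eq_one_right h5).symm
    have h7 := hc _ h4
    apply ne_of_nec hW
    simp only [ev_append, h6]
    simpa only [mul_assoc] using h7
  · exact Or.inl (eq_of_eqc hW)
  · exact Or.inr (eq_of_eqc hW)

theorem onlyZ_model : ∀ t : ↥Gp, orderOf t = 2 → OnlyZ t := by
  intro t ht
  obtain ⟨c, hc⟩ := exists_conj ht
  exact onlyZ_z.of_conj hc

/-- every involution `t` of `G₂(3)` is the only involution of `C(t)` commuting with all its conjugates in `C(t)` -/
theorem onlyZ_g23 {K : Type*} [Group K] {F : Type} [Field F] [Fintype F] (hF : Fintype.card F = 3)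
    (e : K ≃* ↥(chevG2.group F)) : ∀ t : K, orderOf t = 2 → OnlyZ t := by
  have h3 : Fintype.card (ZMod 3) = Fintype.card F := by rw [hF]; rfl
  let φ : ZMod 3 ≃+* F := FiniteField.ringEquivOfCardEq h3
  exact OnlyZ.of_equiv onlyZ_model ((ChevalleyStructure.FieldIso.groupEquiv chevG2 φ).trans e.symm)

/-- **the row `G₂(3)`** : the predicate of `H46.CharTwoSpor` -/
theorem rowB_g23 {K : Type*} [Group K] [Finite K] (h : SevenCases.GTwoOdd (fun q => q = 3) K) : RowB 2 K := by
  obtain ⟨F, _, _, -, hF, ⟨e⟩⟩ := h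
  exact fun z hz => (onlyZ_g23 hF e z hz.1).rowAt

end Cfsg.Agent.H736.PU.G23
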